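import Groth.Agent.S4626
import Mathlib.AlgebraicGeometry.Geometrically.Integral
import Mathlib.AlgebraicGeometry.Geometrically.Connected

/-! Descent of `geometrically P` along a field extension of the base field (helper1). -/

set_option autoImplicit false
universe u

namespace Groth.Agent.H1.GeomBC

open CategoryTheory CategoryTheory.Limits AlgebraicGeometry

/-- If `P` descends along surjective flat quasi-compact morphisms, then `geometrically P` for the
base change `X_K → Spec K` implies `geometrically P` for `X → Spec k`. -/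
lemma geometrically_of_bc (P : ObjectProperty Scheme.{u}) [P.IsClosedUnderIsomorphisms]
    (hdesc : ∀ {Z W : Scheme.{u}} (p : Z ⟶ W), Surjective p → Flat p → QuasiCompact p → P Z → P W)
    {k K : Type u} [Field k] [Field K] [Algebra k K]
    {X : Scheme.{u}} (f : X ⟶ Spec (CommRingCat.of k))
    (h : geometrically P (pullback.snd f (Spec.map (CommRingCat.ofHom (algebraMap k K))))) :
    geometrically P f := by
  rw [geometrically_iff_of_commRing_of_isClosedUnderIsomorphisms]
  intro L _ _
  obtain ⟨Ω, _, a, b, hab⟩ := Groth.Agent.S4626.exists_compositum k K L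
  let gK : Spec (.of K) ⟶ Spec (.of k) := Spec.map (CommRingCat.ofHom (algebraMap k K))
  let gL : Spec (.of L) ⟶ Spec (.of k) := Spec.map (CommRingCat.ofHom (algebraMap k L))
  let gΩK : Spec (.of Ω) ⟶ Spec (.of K) := Spec.map (CommRingCat.ofHom a)
  let gΩL : Spec (.of Ω) ⟶ Spec (.of L) := Spec.map (CommRingCat.ofHom b)
  have hg : gΩK ≫ gK = gΩL ≫ gL := by
    simp only [gΩK, gΩL, gK, gL, ← Spec.map_comp, ← CommRingCat.ofHom_comp, hab]
  have hZ : P (pullback (pullback.snd f gL) gΩL) := by
    have h1 : IsPullback (pullback.fst (pullback.snd f gL) gΩL ≫ pullback.fst f gL)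
        (pullback.snd (pullback.snd f gL) gΩL) f (gΩL ≫ gL) :=
      (IsPullback.of_hasPullback (pullback.snd f gL) gΩL).paste_horiz
        (IsPullback.of_hasPullback f gL)
    rw [← hg] at h1
    have hw : (pullback.fst (pullback.snd f gL) gΩL ≫ pullback.fst f gL) ≫ f =
        (pullback.snd (pullback.snd f gL) gΩL ≫ gΩK) ≫ gK := by
      rw [Category.assoc, Category.assoc]; exact h1.w
    let l : pullback (pullback.snd f gL) gΩL ⟶ pullback f gK := pullback.lift _ _ hw
    have hl1 : l ≫ pullback.fst f gK = pullback.fst (pullback.snd f gL) gΩL ≫ pullback.fst f gL :=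
      pullback.lift_fst _ _ _
    have hl2 : l ≫ pullback.snd f gK = pullback.snd (pullback.snd f gL) gΩL ≫ gΩK :=
      pullback.lift_snd _ _ _
    rw [← hl1] at h1
    have h2 : IsPullback l (pullback.snd (pullback.snd f gL) gΩL) (pullback.snd f gK) gΩK :=
      IsPullback.of_right h1 hl2 (IsPullback.of_hasPullback f gK)
    exact h gΩK l _ h2
  have hsurj : Surjective gΩL := by
    refine ⟨fun x => ?_⟩
    have : Nonempty (PrimeSpectrum Ω) := inferInstance
    obtain ⟨y⟩ := this
    have hsub : Subsingleton (PrimeSpectrum L) := inferInstance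
    exact ⟨y, hsub.elim _ _⟩
  have hflat : Flat gΩL := inferInstance
  exact hdesc (pullback.fst (pullback.snd f gL) gΩL) inferInstance inferInstance inferInstance hZ

end Groth.Agent.H1.GeomBC
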